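import Mathlib
import Cfsg.Agent.Lib.Unitary.Field

/-!
Finite field facts for the package PQ (see `plans/TITS.md`).
-/

set_option autoImplicit false

namespace CfsgLib.Tits.PQa

variable {F : Type*} [Field F] [Finite F]

/-- the involution of a finite field -/
theorem invol {σ : F →+* F} (h2 : ∀ t, σ (σ t) = t) (h1 : ∃ t, σ t ≠ t) :
    ∃ q, Nat.card F = q ^ 2 ∧ Nat.card {x : F // σ x = x} = q ∧ (∀ x, σ x = x ^ q) ∧
      ∀ μ, σ μ = μ → ∃ s, s * σ s = μ := by
  classical
  obtain ⟨t, ht⟩ := h1
  haveI := Fintype.ofFinite F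
  let K := σ.eqLocusField (RingHom.id F)
  have hd : t - σ t ≠ 0 := sub_ne_zero.2 ht.symm
  have hd' : σ t - t ≠ 0 := sub_ne_zero.2 ht
  have bij : Function.Bijective fun p : K × K => (p.1 : F) + p.2 * t := by
    refine ⟨fun ⟨a, b⟩ ⟨a', b'⟩ e => ?_, fun x => ?_⟩
    · have e1 : (a : F) + b * t = a' + b' * t := e
      have e2 := congrArg σ e1
      rw [map_add, map_add, map_mul, map_mul, show σ a = a from a.2, show σ b = b from b.2,
        show σ a' = a' from a'.2, show σ b' = b' from b'.2] at e2
      have e3 : (b : F) = b' := mul_right_cancel₀ hd (by linear_combination e1 - e2)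
      exact Prod.ext (Subtype.ext (by rw [e3] at e1; exact add_right_cancel e1)) (Subtype.ext e3)
    · have e1 : σ ((x - σ x) / (t - σ t)) = (x - σ x) / (t - σ t) := by
        rw [map_div₀, map_sub, map_sub, h2, h2]; field_simp; ring
      refine ⟨⟨⟨x - (x - σ x) / (t - σ t) * t, ?_⟩, ⟨_, e1⟩⟩, sub_add_cancel _ _⟩
      show σ _ = _
      rw [map_sub, map_mul, e1, RingHom.id_apply]; field_simp; ring
  have hc : Nat.card F = Nat.card K ^ 2 := by rw [← Nat.card_eq_of_bijective _ bij, Nat.card_prod, pow_two]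
  have hF : Fintype.card F = Nat.card K ^ 2 := Nat.card_eq_fintype_card.symm.trans hc
  have hk : ∀ x, σ x = x → x ^ Nat.card K = x := fun x hx => by
    have := FiniteField.pow_card (⟨x, hx⟩ : K)
    rw [← Nat.card_eq_fintype_card] at this
    exact congrArg Subtype.val this
  have hk' : ∀ x, x ^ Nat.card K = x → σ x = x := fun x hx => by
    obtain ⟨y, e⟩ := (Function.Injective.bijective_of_nat_card_le
      (f := fun y : K => (⟨y, hk y y.2⟩ : {x : F // x ^ Nat.card K = x}))
      (fun a b e => Subtype.ext (Subtype.mk.inj e)) (Unitary.card_fixed hF).le).2 ⟨x, hx⟩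
    rw [← Subtype.mk.inj e]; exact y.2
  have hp : ∀ x, σ x = x ^ Nat.card K := fun x => by
    have e := congrArg (Unitary.conj hF) (show x * x + x * σ x = (x + σ x) * x by ring)
    simp only [map_add (Unitary.conj hF) (x * x), map_mul (Unitary.conj hF) x x,
      map_mul (Unitary.conj hF) (x + σ x), Unitary.conj_apply] at e
    rw [hk (x * σ x) (by rw [map_mul, h2, mul_comm]), hk (x + σ x) (by rw [map_add, h2, add_comm])] at e
    have : (x ^ Nat.card K - x) * (x ^ Nat.card K - σ x) = 0 := by linear_combination e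
    rcases mul_eq_zero.1 this with e1 | e1
    · rw [sub_eq_zero.1 e1]; exact hk' x (sub_eq_zero.1 e1)
    · exact (sub_eq_zero.1 e1).symm
  refine ⟨_, hc, rfl, hp, fun μ hμ => ?_⟩
  obtain ⟨s, hs⟩ := Unitary.exists_norm_eq hF (hk μ hμ)
  exact ⟨s, by rw [hp, ← pow_succ', hs]⟩

omit [Finite F] in
theorem exists_trace {σ : F →+* F} (h2 : ∀ t, σ (σ t) = t) (h1 : ∃ t, σ t ≠ t) : ∃ a, a + σ a = 1 := by
  have : ∃ t, t + σ t ≠ 0 := by
    by_contra h
    push Not at h
    obtain ⟨t, ht⟩ := h1
    have e := h 1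
    rw [map_one] at e
    exact ht (by linear_combination h t - t * e)
  obtain ⟨t, ht⟩ := this
  exact ⟨t / (t + σ t), by rw [map_div₀, map_add, h2, add_comm (σ t), ← add_div, div_self ht]⟩

theorem exists_sq (h : (2 : F) = 0) {a : F} (ha : a ≠ 0) (b : F) : ∃ s, s * s * a = b := by
  have : Function.Injective fun s : F => s * s * a := fun s t e =>
    sub_eq_zero.1 (pow_eq_zero_iff two_ne_zero |>.1 (mul_right_cancel₀ ha
      (by linear_combination (e : s * s * a = t * t * a) + (t * t * a - s * t * a) * h)))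
  exact Finite.injective_iff_surjective.1 this b

theorem two_eq_zero_iff : (2 : F) = 0 ↔ Even (Nat.card F) := by
  haveI := Fintype.ofFinite F
  rw [Nat.card_eq_fintype_card, Nat.even_iff, ← FiniteField.even_card_iff_char_two]
  exact ⟨fun h => by_contra fun e => Ring.two_ne_zero e h, fun h => by
    have := ringChar.Nat.cast_ringChar (R := F)
    rwa [h] at this⟩

/-- an anisotropic binary quadratic form has non-zero discriminant -/
theorem disc_ne {A B E : F} (hA : A ≠ 0) (h : ∀ x, A * x * x + B * x + E ≠ 0) : 4 * A * E - B * B ≠ 0 := by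
  intro e
  by_cases h2 : (2 : F) = 0
  · have hB : B = 0 := mul_self_eq_zero.1 (by linear_combination -e + 2 * A * E * h2)
    obtain ⟨s, hs⟩ := exists_sq h2 hA (-E)
    exact h s (by rw [hB]; linear_combination hs)
  · exact h (-B / (2 * A)) (by field_simp; linear_combination e)

/-- a non-degenerate binary quadratic form is universal -/
theorem universal {A B E : F} (hA : A ≠ 0) (hd : 4 * A * E - B * B ≠ 0) (μ : F) :
    ∃ s t, s * s * A + s * t * B + t * t * E = μ := by
  by_cases h2 : (2 : F) = 0
  · obtain ⟨s, hs⟩ := exists_sq h2 hA μ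
    exact ⟨s, 0, by linear_combination hs⟩
  haveI := Fintype.ofFinite F
  have ho : Fintype.card F % 2 = 1 := by
    rw [two_eq_zero_iff, Nat.not_even_iff, Nat.card_eq_fintype_card] at h2; exact h2
  obtain ⟨u, t, e⟩ := FiniteField.exists_root_sum_quadratic (f := Polynomial.X ^ 2)
    (g := Polynomial.C (4 * A * E - B * B) * Polynomial.X ^ 2 + Polynomial.C 0 * Polynomial.X +
      Polynomial.C (-(4 * A * μ))) (Polynomial.degree_X_pow 2) (Polynomial.degree_quadratic hd) ho
  simp only [Polynomial.eval_add, Polynomial.eval_mul, Polynomial.eval_pow, Polynomial.eval_X,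
    Polynomial.eval_C] at e
  refine ⟨(u - B * t) / (2 * A), t, ?_⟩
  field_simp
  linear_combination e

/-- two anisotropic binary forms with the same first coefficient are equivalent -/
theorem quad {A B E B₀ E₀ : F} (hA : A ≠ 0) (h : ∀ x, A * x * x + B * x + E ≠ 0)
    (h₀ : ∀ x, A * x * x + B₀ * x + E₀ ≠ 0) :
    ∃ s t, 2 * s * A + t * B₀ = B ∧ s * s * A + s * t * B₀ + t * t * E₀ = E := by
  classical
  haveI := Fintype.ofFinite F
  have d := disc_ne hA h
  have d₀ := disc_ne hA h₀
  by_cases h2 : (2 : F) = 0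
  · have hB : B ≠ 0 := fun e => d (by rw [e]; linear_combination 2 * A * E * h2)
    have hB₀ : B₀ ≠ 0 := fun e => d₀ (by rw [e]; linear_combination 2 * A * E₀ * h2)
    let φ : F →+ F := AddMonoidHom.mk' (fun s => A * s * s + B * s) fun a b => by
      linear_combination A * a * b * h2
    have hk : Nat.card φ.ker = 2 := by
      have : (φ.ker : Set F) = {0, B / A} := by
        ext s
        simp only [SetLike.mem_coe, AddMonoidHom.mem_ker, Set.mem_insert_iff, Set.mem_singleton_iff]
        show A * s * s + B * s = 0 ↔ _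
        rw [show A * s * s + B * s = s * (A * s + B) by ring, mul_eq_zero, eq_div_iff hA]
        exact or_congr_right ⟨fun e => by linear_combination e - B * h2, fun e => by linear_combination e + B * h2⟩
      exact (Nat.card_coe_set_eq _).trans (this ▸ Set.ncard_pair (div_ne_zero hB hA).symm)
    have hi : φ.range.index = 2 := by
      have h1 := φ.ker.card_mul_index
      have h3 := φ.range.card_mul_index
      rw [AddSubgroup.index_ker, hk, mul_comm, ← h3] at h1
      exact (Nat.eq_of_mul_eq_mul_left Nat.card_pos h1).symm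
    obtain ⟨s, hs⟩ := (AddSubgroup.add_mem_iff_of_index_two hi (a := E) (b := -(B / B₀ * (B / B₀) * E₀))).2
      (iff_of_false (fun ⟨s, hs⟩ => h s (by
          have e : A * s * s + B * s = E := hs
          linear_combination e + E * h2))
        fun ⟨s, hs⟩ => h₀ (s * B₀ / B) (by
          have e : A * s * s + B * s = -(B / B₀ * (B / B₀) * E₀) := hs
          field_simp at e ⊢
          linear_combination e))
    have e : A * s * s + B * s = E + -(B / B₀ * (B / B₀) * E₀) := hs
    refine ⟨s, B / B₀, ?_, ?_⟩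
    · rw [h2, div_mul_cancel₀ _ hB₀]; ring
    · rw [mul_assoc s _ B₀, div_mul_cancel₀ _ hB₀]; linear_combination e
  have ns : ∀ {B E : F}, (∀ x, A * x * x + B * x + E ≠ 0) → quadraticChar F (B * B - 4 * A * E) = -1 :=
    fun {B E} h => quadraticChar_neg_one_iff_not_isSquare.2 fun ⟨r, e⟩ =>
      h ((r - B) / (2 * A)) (by field_simp; linear_combination -e)
  have d₁ : B₀ * B₀ - 4 * A * E₀ ≠ 0 := fun e => d₀ (by linear_combination -e)
  obtain ⟨r, e⟩ := (quadraticChar_one_iff_isSquare (a := (B * B - 4 * A * E) * (B₀ * B₀ - 4 * A * E₀))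
    (mul_ne_zero (fun e => d (by linear_combination -e)) d₁)).1 (by rw [map_mul, ns h, ns h₀]; rfl)
  obtain ⟨t, rfl⟩ : ∃ t, r = t * (B₀ * B₀ - 4 * A * E₀) := ⟨r / _, (div_mul_cancel₀ _ d₁).symm⟩
  have e1 : B * B - 4 * A * E = t * t * (B₀ * B₀ - 4 * A * E₀) :=
    mul_right_cancel₀ d₁ (by linear_combination e)
  refine ⟨(B - t * B₀) / (2 * A), t, by field_simp; ring, ?_⟩
  field_simp
  linear_combination e1

end CfsgLib.Tits.PQa
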